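import Cfsg.Agent.H421.GLn.Newt
set_option linter.all false

/-!
# The necklace factorisation and integrality of complete homogeneous elements
-/

set_option autoImplicit false
set_option linter.unusedSectionVars false

namespace Cfsg.Agent.H421.GLn

open PowerSeries Finset

/-! ### periodic words -/

section words

variable {M : ℕ} [NeZero M]

/-- the shift of `M`-periodic words -/
def sh (M : ℕ) : Equiv.Perm (ZMod M → Bool) where
  toFun f := fun i => f (i + 1)
  invFun f := fun i => f (i - 1)
  left_inv f := by funext i; simp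
  right_inv f := by funext i; simp

theorem sh_apply (f : ZMod M → Bool) (i : ZMod M) : sh M f i = f (i + 1) := rfl

theorem sh_iter (k : ℕ) (f : ZMod M → Bool) (i : ZMod M) : ((sh M)^[k] f) i = f (i + k) := by
  induction k generalizing f with
  | zero => simp
  | succ k ih =>
    rw [Function.iterate_succ_apply, ih, sh_apply]
    push_cast
    ring_nf

/-- periodicity -/
def per (d : ℕ) (f : ZMod M → Bool) : Prop := ∀ i, f (i + (d : ZMod M)) = f i

theorem per_iff (d : ℕ) (f : ZMod M → Bool) : per d f ↔ Function.minimalPeriod (sh M) f ∣ d := by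
  rw [← Function.isPeriodicPt_iff_minimalPeriod_dvd]
  constructor
  · intro h
    show (sh M)^[d] f = f
    funext i
    rw [sh_iter, h i]
  · intro h i
    have h1 : (sh M)^[d] f = f := h
    rw [← sh_iter d f i, h1]

theorem per_M (f : ZMod M → Bool) : per M f := fun i => by simp

theorem minp_dvd (f : ZMod M → Bool) : Function.minimalPeriod (sh M) f ∣ M := (per_iff M f).1 (per_M f)

theorem minp_pos (f : ZMod M → Bool) : 0 < Function.minimalPeriod (sh M) f :=
  Nat.pos_of_dvd_of_pos (minp_dvd f) (NeZero.pos M)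

theorem per_minp (f : ZMod M → Bool) : per (Function.minimalPeriod (sh M) f) f :=
  (per_iff _ f).2 dvd_rfl

theorem per_mul {d : ℕ} {f : ZMod M → Bool} (h : per d f) (t : ℕ) (i : ZMod M) :
    f (i + ((d * t : ℕ) : ZMod M)) = f i := by
  induction t with
  | zero => simp
  | succ t ih =>
    rw [← ih, ← h (i + ((d * t : ℕ) : ZMod M))]
    congr 1
    push_cast
    ring

theorem per_of_dvd {d k : ℕ} {f : ZMod M → Bool} (h : per d f) (hk : d ∣ k) : per k f := by
  obtain ⟨t, rfl⟩ := hk
  exact per_mul h t

theorem per_cast {d : ℕ} (hd : d ∣ M) {f : ZMod M → Bool} (hf : per d f) {y y' : ZMod M}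
    (h : ZMod.castHom hd (ZMod d) y = ZMod.castHom hd (ZMod d) y') : f y = f y' := by
  have h1 : ZMod.castHom hd (ZMod d) (y' - y) = 0 := by rw [map_sub, h, sub_self]
  have h2 : ((y' - y).val : ZMod M) = y' - y := ZMod.natCast_zmod_val _
  have h3 : (((y' - y).val : ℕ) : ZMod d) = 0 := by
    rw [← h2, map_natCast] at h1
    exact h1
  rw [ZMod.natCast_eq_zero_iff] at h3
  obtain ⟨t, ht⟩ := h3
  have h4 : y' = y + ((d * t : ℕ) : ZMod M) := by
    rw [← ht, h2]
    ring
  rw [h4, per_mul hf]

/-- number of letters `1` among the first `k` -/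
def wt (k : ℕ) (f : ZMod M → Bool) : ℕ := ∑ i ∈ range k, if f (i : ZMod M) then 1 else 0

/-- base `q` value of the first `k` letters -/
def av (q : ℤ) (k : ℕ) (f : ZMod M → Bool) : ℤ := ∑ i ∈ range k, if f (i : ZMod M) then q ^ i else 0

theorem wt_sh {k : ℕ} {f : ZMod M → Bool} (h : per k f) : wt k (sh M f) = wt k f := by
  have h1 : (∑ i ∈ range (k + 1), if f (i : ZMod M) then 1 else 0) =
      (wt k (sh M f)) + if f 0 then 1 else 0 := by
    rw [Finset.sum_range_succ', wt]
    congr 1
    · refine Finset.sum_congr rfl fun i _ => ?_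
      rw [sh_apply]
      push_cast
      rfl
    · simp
  have h2 : (∑ i ∈ range (k + 1), if f (i : ZMod M) then 1 else 0) =
      (wt k f) + if f 0 then 1 else 0 := by
    rw [Finset.sum_range_succ, wt]
    have := h 0
    rw [zero_add] at this
    rw [this]
  omega

theorem av_sh (q : ℤ) {k : ℕ} {f : ZMod M → Bool} (h : per k f) :
    q * av q k (sh M f) + (if f 0 then 1 else 0) = av q k f + (if f 0 then 1 else 0) * q ^ k := by
  have h1 : (∑ i ∈ range (k + 1), if f (i : ZMod M) then q ^ i else 0) =
      q * (av q k (sh M f)) + if f 0 then 1 else 0 := by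
    rw [Finset.sum_range_succ', av, Finset.mul_sum]
    congr 1
    · refine Finset.sum_congr rfl fun i _ => ?_
      rw [sh_apply, mul_ite, mul_zero, pow_succ']
      push_cast
      rfl
    · simp
  have h2 : (∑ i ∈ range (k + 1), if f (i : ZMod M) then q ^ i else 0) =
      (av q k f) + (if f 0 then 1 else 0) * q ^ k := by
    rw [Finset.sum_range_succ, av]
    have := h 0
    rw [zero_add] at this
    rw [this]
    congr 1
    split_ifs <;> simp
  rw [← h1, h2]

theorem av_sh_modEq (q : ℤ) {k : ℕ} {f : ZMod M → Bool} (h : per k f) :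
    q * av q k (sh M f) ≡ av q k f [ZMOD q ^ k - 1] := by
  have h1 := av_sh q h
  generalize (if f 0 then 1 else 0 : ℤ) = e at h1
  have h5 : q * av q k (sh M f) = av q k f + (q ^ k - 1) * e := by linear_combination h1
  rw [h5]
  exact Int.modEq_iff_dvd.2 ⟨-e, by ring⟩

theorem sum_range_mul {A : Type*} [AddCommMonoid A] (d m : ℕ) (g : ℕ → A) :
    ∑ i ∈ range (d * m), g i = ∑ j ∈ range m, ∑ i ∈ range d, g (d * j + i) := by
  induction m with
  | zero => simp
  | succ m ih =>
    rw [Finset.sum_range_succ, ← ih, Nat.mul_succ, Finset.sum_range_add]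

theorem wt_mul {d : ℕ} {f : ZMod M → Bool} (h : per d f) (m : ℕ) : wt (d * m) f = m * wt d f := by
  rw [wt, sum_range_mul]
  rw [Finset.sum_congr rfl (g := fun _ => wt d f)]
  · simp
  · intro j _
    rw [wt]
    refine Finset.sum_congr rfl fun i _ => ?_
    have : f ((d * j + i : ℕ) : ZMod M) = f (i : ZMod M) := by
      rw [← per_mul h j (i : ZMod M)]
      congr 1
      push_cast
      ring
    rw [this]

theorem av_mul (q : ℤ) {d : ℕ} {f : ZMod M → Bool} (h : per d f) (m : ℕ) :
    av q (d * m) f = av q d f * ∑ j ∈ range m, (q ^ d) ^ j := by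
  rw [av, sum_range_mul, Finset.mul_sum]
  refine Finset.sum_congr rfl fun j _ => ?_
  rw [av, Finset.sum_mul]
  refine Finset.sum_congr rfl fun i _ => ?_
  have : f ((d * j + i : ℕ) : ZMod M) = f (i : ZMod M) := by
    rw [← per_mul h j (i : ZMod M)]
    congr 1
    push_cast
    ring
  rw [this, ite_mul, zero_mul, pow_add, pow_mul, mul_comm]

/-- sums over the `k`-periodic words are sums over subsets of `range k` -/
theorem sum_words {A : Type*} [AddCommMonoid A] {k : ℕ} (hk0 : 0 < k) (hk : k ∣ M) (g : ℕ → ℤ → A) (q : ℤ)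
    [DecidablePred fun f : ZMod M → Bool => per k f] :
    ∑ f : ZMod M → Bool, (if per k f then g (wt k f) (av q k f) else 0) =
      ∑ T ∈ (range k).powerset, g T.card (∑ i ∈ T, q ^ i) := by
  have : NeZero k := ⟨hk0.ne'⟩
  rw [← Finset.sum_filter]
  refine Finset.sum_bij' (fun f _ => (range k).filter (fun i : ℕ => f (i : ZMod M) = true))
    (fun T _ => fun y : ZMod M => decide ((ZMod.castHom hk (ZMod k) y).val ∈ T)) ?_ ?_ ?_ ?_ ?_
  · intro f _
    rw [mem_powerset]
    exact Finset.filter_subset _ _
  · intro T _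
    rw [mem_filter]
    refine ⟨mem_univ _, fun i => ?_⟩
    show decide _ = decide _
    rw [map_add, map_natCast, ZMod.natCast_self, add_zero]
  · intro f hf
    rw [mem_filter] at hf
    funext y
    have h1 : (ZMod.castHom hk (ZMod k) y).val < k := ZMod.val_lt _
    rw [Bool.eq_iff_iff, decide_eq_true_iff, mem_filter, mem_range]
    have h2 : f (((ZMod.castHom hk (ZMod k) y).val : ℕ) : ZMod M) = f y := by
      apply per_cast hk hf.2
      rw [map_natCast, ZMod.natCast_zmod_val]
    rw [h2]
    exact ⟨fun h => h.2, fun h => ⟨h1, h⟩⟩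
  · intro T hT
    rw [mem_powerset] at hT
    ext i
    rw [mem_filter, mem_range]
    constructor
    · rintro ⟨hi, h⟩
      rw [decide_eq_true_iff, map_natCast, ZMod.val_natCast_of_lt hi] at h
      exact h
    · intro hi
      have hik := mem_range.1 (hT hi)
      refine ⟨hik, ?_⟩
      rw [decide_eq_true_iff, map_natCast, ZMod.val_natCast_of_lt hik]
      exact hi
  · intro f _
    rw [wt, av, Finset.card_filter, Finset.sum_filter]

end words

/-! ### the factorisation -/

section necklace

variable {R : Type*} [CommRing R] [Algebra ℂ R]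

/-- the power sums of the product over all words -/
noncomputable def QQ (q : ℤ) (P : ℕ → ℤ → R) (x : ℤ) (k : ℕ) : Polynomial R :=
  ∑ T ∈ (range k).powerset, Polynomial.monomial T.card (P k (x * ∑ i ∈ T, q ^ i))

/-- invariance under Frobenius -/
def Inv (q : ℤ) (N : ℕ) (P : ℕ → ℤ → R) : Prop :=
  ∀ k a b, 0 < k → k ≤ N → q * a ≡ b [ZMOD q ^ k - 1] → P k a = P k b

variable {M : ℕ} [NeZero M] {q : ℤ} {N : ℕ} {P : ℕ → ℤ → R}

theorem wt_eq_zero_iff {k : ℕ} {f : ZMod M → Bool} :
    wt k f = 0 ↔ ∀ i < k, f (i : ZMod M) = false := by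
  rw [wt, Finset.sum_eq_zero_iff]
  refine ⟨fun h i hi => ?_, fun h i hi => ?_⟩
  · have h1 := h i (mem_range.2 hi)
    by_contra h2
    rw [Bool.not_eq_false] at h2
    rw [h2, if_pos rfl] at h1
    exact one_ne_zero h1
  · rw [h i (mem_range.1 hi)]
    rfl

theorem P_sh (hP : Inv q N P) (x : ℤ) {k : ℕ} (hk : 0 < k) (hkN : k ≤ N) {f : ZMod M → Bool}
    (h : per k f) : P k (x * av q k (sh M f)) = P k (x * av q k f) := by
  refine hP k _ _ hk hkN ?_
  have := (av_sh_modEq q h).mul_left x
  rwa [mul_left_comm] at this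

/-- the power sums of a word -/
noncomputable def Pc (q : ℤ) (P : ℕ → ℤ → R) (x : ℤ) (d : ℕ) (f : ZMod M → Bool) (m : ℕ) : R :=
  P (d * m) (x * av q (d * m) f)

/-- the factor of a word -/
noncomputable def ser (q : ℤ) (P : ℕ → ℤ → R) (x : ℤ) (f : ZMod M → Bool) : (Polynomial R)⟦X⟧ :=
  up (Function.minimalPeriod (sh M) f) (wt (Function.minimalPeriod (sh M) f) f)
    (hS (Pc q P x (Function.minimalPeriod (sh M) f) f))

/-- its logarithmic derivative -/
noncomputable def lser (q : ℤ) (P : ℕ → ℤ → R) (x : ℤ) (f : ZMod M → Bool) : (Polynomial R)⟦X⟧ :=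
  ((Function.minimalPeriod (sh M) f : ℕ) : (Polynomial R)⟦X⟧) *
    up (Function.minimalPeriod (sh M) f) (wt (Function.minimalPeriod (sh M) f) f)
      (pS (Pc q P x (Function.minimalPeriod (sh M) f) f))

theorem dS_ser (q : ℤ) (P : ℕ → ℤ → R) (x : ℤ) (f : ZMod M → Bool) :
    dS (ser q P x f) = lser q P x f * ser q P x f := by
  rw [ser, dS_up (minp_pos f), dS_hS, up_mul (minp_pos f), lser, mul_assoc]

open Classical in
theorem sum_lser (hP : Inv q N P) (x : ℤ) {n : ℕ} (hn : 0 < n) (hnN : n ≤ N) (hnM : n ∣ M) :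
    coeff n (∑ c : Quotient (Equiv.Perm.SameCycle.setoid (sh M)), lser q P x c.out) = QQ q P x n := by
  have h1 : QQ q P x n = ∑ f : ZMod M → Bool,
      (if per n f then Polynomial.monomial (wt n f) (P n (x * av q n f)) else 0) :=
    (sum_words hn hnM (fun a b => Polynomial.monomial a (P n (x * b))) q).symm
  rw [h1, sum_orbits (sh M), map_sum]
  · refine Finset.sum_congr rfl fun c _ => ?_
    set f := c.out with hf
    set d := Function.minimalPeriod (sh M) f with hd
    have h3 : ∀ g : (Polynomial R)⟦X⟧, coeff n (((d : ℕ) : (Polynomial R)⟦X⟧) * g) = (d : Polynomial R) * coeff n g := by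
      intro g
      have : ((d : ℕ) : (Polynomial R)⟦X⟧) = PowerSeries.C (d : Polynomial R) := by simp
      rw [this, coeff_C_mul]
    rw [lser, ← hd, h3]
    congr 1
    have hd0 : 0 < d := minp_pos f
    by_cases hp : per n f
    · rw [if_pos hp]
      obtain ⟨m, hm⟩ := (per_iff n f).1 hp
      rw [← hd] at hm
      subst hm
      rw [coeff_up_mul hd0, wt_mul (per_minp f), pS, coeff_mk, if_neg, Pc]
      rintro rfl
      simp at hn
    · rw [if_neg hp, coeff_up_not]
      intro h
      exact hp ((per_iff n f).2 h)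
  · intro f
    by_cases hp : per n f
    · have hp' : per n (sh M f) := by
        intro i
        rw [sh_apply, sh_apply, ← hp (i + 1)]
        congr 1
        ring
      rw [if_pos hp, if_pos hp', wt_sh hp, P_sh hP x hn hnN hp]
    · have hp' : ¬ per n (sh M f) := by
        intro h
        apply hp
        intro i
        have := h (i - 1)
        rw [sh_apply, sh_apply] at this
        rw [sub_add_cancel] at this
        rw [← this]
        congr 1
        ring
      rw [if_neg hp, if_neg hp']

/-- the product over all necklaces -/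
noncomputable def prodAll (q : ℤ) (P : ℕ → ℤ → R) (M : ℕ) [NeZero M] (x : ℤ)
    [Fintype (Quotient (Equiv.Perm.SameCycle.setoid (sh M)))] : (Polynomial R)⟦X⟧ :=
  ∏ c : Quotient (Equiv.Perm.SameCycle.setoid (sh M)), ser q P x c.out

theorem coeff_zero_ser (q : ℤ) (P : ℕ → ℤ → R) (x : ℤ) (f : ZMod M → Bool) : coeff 0 (ser q P x f) = 1 := by
  rw [ser, coeff_zero_up (minp_pos _), hS, coeff_mk, newt_zero, map_one]

theorem coeff_zero_lser (q : ℤ) (P : ℕ → ℤ → R) (x : ℤ) (f : ZMod M → Bool) : coeff 0 (lser q P x f) = 0 := by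
  have h : coeff 0 (up (Function.minimalPeriod (sh M) f) (wt (Function.minimalPeriod (sh M) f) f)
      (pS (Pc q P x (Function.minimalPeriod (sh M) f) f))) = 0 := by
    rw [coeff_zero_up (minp_pos _), pS, coeff_mk, if_pos rfl, map_zero]
  rw [lser, coeff_mul]
  refine Finset.sum_eq_zero fun y hy => ?_
  rw [mem_antidiagonal] at hy
  rw [show y.2 = 0 by omega, h, mul_zero]

theorem coeff_zero_prod {A ι : Type*} [CommRing A] (s : Finset ι) (f : ι → A⟦X⟧)
    (h : ∀ i ∈ s, coeff 0 (f i) = 1) : coeff 0 (∏ i ∈ s, f i) = 1 := by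
  rw [coeff_zero_eq_constantCoeff_apply, map_prod]
  refine Finset.prod_eq_one fun c hc => ?_
  rw [← coeff_zero_eq_constantCoeff_apply]
  exact h c hc

open Classical in
/-- the necklace factorisation, up to a degree. -/
theorem factor (hP : Inv q N P) (x : ℤ) (hN : ∀ n, 0 < n → n ≤ N → n ∣ M) :
    ∀ n ≤ N, newt (QQ q P x) n = coeff n (prodAll q P M x) := by
  intro n hn
  have h1 : newt (QQ q P x) n = coeff n (hS (QQ q P x)) := by rw [hS, coeff_mk]
  have h2 : coeff 0 (hS (QQ q P x)) = coeff 0 (prodAll q P M x) := by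
    rw [hS, coeff_mk, newt_zero, prodAll, coeff_zero_prod]
    intro c _
    exact coeff_zero_ser q P x c.out
  have h3 : coeff 0 (pS (QQ q P x)) = 0 := by rw [pS, coeff_mk, if_pos rfl]
  have h4 : dS (prodAll q P M x) = (∑ c : Quotient (Equiv.Perm.SameCycle.setoid (sh M)), lser q P x c.out) *
      prodAll q P M x := dS_prod _ _ _ fun c _ => dS_ser q P x c.out
  have h5 : ∀ m ≤ N, coeff m (pS (QQ q P x)) =
      coeff m (∑ c : Quotient (Equiv.Perm.SameCycle.setoid (sh M)), lser q P x c.out) := by
    intro m hm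
    rcases Nat.eq_zero_or_pos m with rfl | hm0
    · rw [h3, map_sum]
      symm
      exact Finset.sum_eq_zero fun c _ => coeff_zero_lser q P x c.out
    · rw [sum_lser hP x hm0 hm (hN m hm0 hm), pS, coeff_mk, if_neg hm0.ne']
  rw [h1]
  exact uniq_trunc (dS_hS (QQ q P x)) h4 h2 h3 h5 n hn

end necklace

/-! ### extraction -/

section extract

variable {R : Type*} [CommRing R]

/-- the bigraded coefficients -/
noncomputable def W (f : (Polynomial R)⟦X⟧) (n i : ℕ) : R := (coeff n f).coeff i

theorem W_mul (f g : (Polynomial R)⟦X⟧) (n k : ℕ) :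
    W (f * g) n k = ∑ y ∈ antidiagonal n, ∑ z ∈ antidiagonal k, W f y.1 z.1 * W g y.2 z.2 := by
  rw [W, coeff_mul, Polynomial.finsetSum_coeff]
  refine Finset.sum_congr rfl fun y _ => ?_
  rw [Polynomial.coeff_mul]
  rfl

/-- series which are `1` modulo `z` and have coefficients in `S` below `z ^ k` -/
def Low (S : Subring R) (k : ℕ) (N : ℕ) (f : (Polynomial R)⟦X⟧) : Prop :=
  (∀ n, W f n 0 = if n = 0 then 1 else 0) ∧ ∀ n i, n ≤ N → i < k → W f n i ∈ S

theorem Low.one (S : Subring R) (k N : ℕ) : Low S k N 1 := by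
  have h : ∀ n i, W (1 : (Polynomial R)⟦X⟧) n i = if n = 0 ∧ i = 0 then 1 else 0 := by
    intro n i
    rw [W, coeff_one]
    by_cases hn : n = 0
    · rw [if_pos hn, Polynomial.coeff_one]
      simp [hn]
    · rw [if_neg hn, Polynomial.coeff_zero]
      simp [hn]
  constructor
  · intro n
    rw [h]
    simp
  · intro n i _ _
    rw [h]
    split_ifs
    · exact S.one_mem
    · exact S.zero_mem

theorem Low.mul {S : Subring R} {k N : ℕ} {f g : (Polynomial R)⟦X⟧} (hf : Low S k N f) (hg : Low S k N g) :
    Low S k N (f * g) := by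
  constructor
  · intro n
    rw [W_mul]
    simp only [Finset.Nat.antidiagonal_zero, Finset.sum_singleton]
    rw [Finset.sum_congr rfl fun y _ => by rw [hf.1, hg.1]]
    by_cases hn : n = 0
    · subst hn
      simp
    · rw [if_neg hn]
      refine Finset.sum_eq_zero fun y hy => ?_
      rw [mem_antidiagonal] at hy
      by_cases h1 : y.1 = 0
      · rw [if_neg (show y.2 ≠ 0 by omega), mul_zero]
      · rw [if_neg h1, zero_mul]
  · intro n i hn hi
    rw [W_mul]
    refine S.sum_mem fun y hy => S.sum_mem fun z hz => ?_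
    rw [mem_antidiagonal] at hy hz
    exact S.mul_mem (hf.2 _ _ (by omega) (by omega)) (hg.2 _ _ (by omega) (by omega))

theorem Low.top_mul {S : Subring R} {k N : ℕ} (hk : 0 < k) {f g : (Polynomial R)⟦X⟧} (hf : Low S k N f)
    (hg : Low S k N g) {n : ℕ} (hn : n ≤ N) : W (f * g) n k - (W f n k + W g n k) ∈ S := by
  have h1 : (0, k) ∈ antidiagonal k := by rw [mem_antidiagonal]; simp
  have h2 : (k, 0) ∈ (antidiagonal k).erase (0, k) := by
    rw [mem_erase, mem_antidiagonal]
    refine ⟨?_, by simp⟩
    intro h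
    rw [Prod.mk.injEq] at h
    omega
  have h3 : ∀ y ∈ antidiagonal n, ∑ z ∈ antidiagonal k, W f y.1 z.1 * W g y.2 z.2 =
      W f y.1 0 * W g y.2 k + (W f y.1 k * W g y.2 0 +
        ∑ z ∈ ((antidiagonal k).erase (0, k)).erase (k, 0), W f y.1 z.1 * W g y.2 z.2) := by
    intro y _
    rw [← Finset.add_sum_erase _ _ h1, ← Finset.add_sum_erase _ _ h2]
  have h4 : ∑ y ∈ antidiagonal n, W f y.1 0 * W g y.2 k = W g n k := by
    rw [Finset.sum_eq_single (0, n)]
    · rw [hf.1, if_pos rfl, one_mul]
    · intro y hy hne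
      rw [mem_antidiagonal] at hy
      rw [hf.1, if_neg, zero_mul]
      intro h
      apply hne
      ext
      · exact h
      · simp only; omega
    · intro h
      rw [mem_antidiagonal] at h
      simp at h
  have h5 : ∑ y ∈ antidiagonal n, W f y.1 k * W g y.2 0 = W f n k := by
    rw [Finset.sum_eq_single (n, 0)]
    · rw [hg.1, if_pos rfl, mul_one]
    · intro y hy hne
      rw [mem_antidiagonal] at hy
      rw [hg.1, if_neg, mul_zero]
      intro h
      apply hne
      ext
      · simp only; omega
      · exact h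
    · intro h
      rw [mem_antidiagonal] at h
      simp at h
  rw [W_mul, Finset.sum_congr rfl h3, Finset.sum_add_distrib, Finset.sum_add_distrib, h4, h5]
  have h6 : ∀ a b c : R, a + (b + c) - (b + a) = c := by intros; ring
  rw [h6]
  refine S.sum_mem fun y hy => S.sum_mem fun z hz => ?_
  rw [mem_erase, mem_erase, mem_antidiagonal] at hz
  rw [mem_antidiagonal] at hy
  obtain ⟨hz1, hz2, hz3⟩ := hz
  have h7 : z.1 ≠ 0 := by
    intro h
    apply hz2
    ext
    · exact h
    · simp only; omega
  have h8 : z.2 ≠ 0 := by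
    intro h
    apply hz1
    ext
    · simp only; omega
    · exact h
  exact S.mul_mem (hf.2 _ _ (by omega) (by omega)) (hg.2 _ _ (by omega) (by omega))

theorem Low.prod {S : Subring R} {k N : ℕ} (hk : 0 < k) {ι : Type*} (s : Finset ι) {f : ι → (Polynomial R)⟦X⟧}
    (hf : ∀ i ∈ s, Low S k N (f i)) : Low S k N (∏ i ∈ s, f i) ∧
      ∀ n ≤ N, W (∏ i ∈ s, f i) n k - ∑ i ∈ s, W (f i) n k ∈ S := by
  classical
  induction s using Finset.induction_on with
  | empty =>
    refine ⟨Low.one S k N, fun n _ => ?_⟩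
    rw [prod_empty, sum_empty, sub_zero, W, coeff_one]
    split_ifs
    · rw [Polynomial.coeff_one, if_neg hk.ne']
      exact S.zero_mem
    · rw [Polynomial.coeff_zero]
      exact S.zero_mem
  | insert a s ha ih =>
    have ih' := ih fun i hi => hf i (mem_insert_of_mem hi)
    have h1 := hf a (mem_insert_self _ _)
    rw [prod_insert ha]
    refine ⟨h1.mul ih'.1, fun n hn => ?_⟩
    rw [sum_insert ha]
    have h2 := S.add_mem (h1.top_mul hk ih'.1 hn) (ih'.2 n hn)
    convert h2 using 1
    ring

end extract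

section final

variable {R : Type*} [CommRing R] [Algebra ℂ R] {M : ℕ} [NeZero M] {q : ℤ} {N : ℕ} {P : ℕ → ℤ → R}

theorem W_up {d w : ℕ} (hd : 0 < d) (f : R⟦X⟧) (n i : ℕ) :
    W (up d w f) n i = if d ∣ n ∧ n / d * w = i then coeff (n / d) f else 0 := by
  by_cases hn : d ∣ n
  · obtain ⟨m, rfl⟩ := hn
    rw [W, coeff_up_mul hd, Nat.mul_div_cancel_left m hd, Polynomial.coeff_monomial]
    simp
  · rw [W, coeff_up_not hn, Polynomial.coeff_zero, if_neg fun h => hn h.1]

/-- the Newton sequence of a label -/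
noncomputable def HH (q : ℤ) (P : ℕ → ℤ → R) (d : ℕ) (x : ℤ) : ℕ → R :=
  newt fun m => P (d * m) (x * ∑ i ∈ range m, (q ^ d) ^ i)

theorem Pc_eq (q : ℤ) (P : ℕ → ℤ → R) (x : ℤ) {d : ℕ} {f : ZMod M → Bool} (h : per d f) :
    newt (Pc q P x d f) = HH q P d (x * av q d f) := by
  rw [HH]
  congr 1
  funext m
  rw [Pc, av_mul q h, mul_assoc]

theorem zero_of_wt {f : ZMod M → Bool} (h : wt (Function.minimalPeriod (sh M) f) f = 0) :
    f = fun _ => false := by
  rw [wt_eq_zero_iff] at h
  funext y
  have hd := minp_dvd f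
  have hpos := minp_pos f
  have : NeZero (Function.minimalPeriod (sh M) f) := ⟨hpos.ne'⟩
  rw [← h (ZMod.castHom hd (ZMod (Function.minimalPeriod (sh M) f)) y).val (ZMod.val_lt _)]
  apply per_cast hd (per_minp f)
  rw [map_natCast, ZMod.natCast_zmod_val]

theorem sh_zero : sh M (fun _ => false) = fun _ => false := rfl

theorem sameCycle_zero {f : ZMod M → Bool} (h : (sh M).SameCycle (fun _ => false) f) : f = fun _ => false := by
  obtain ⟨n, hn⟩ := h
  rw [← hn]
  have h1 : Function.IsFixedPt (sh M) (fun _ => false) := sh_zero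
  exact Equiv.Perm.zpow_apply_eq_self_of_apply_eq_self h1 n

/-- the word with a single letter `1` in each period -/
def ed (M d : ℕ) (hd : d ∣ M) : ZMod M → Bool := fun y => decide (ZMod.castHom hd (ZMod d) y = 0)

theorem exists_shift {d : ℕ} (hd0 : 0 < d) (hd : d ∣ M) {f : ZMod M → Bool} (hf : per d f) (hw : wt d f = 1) :
    ∃ j : ℕ, (sh M)^[j] f = ed M d hd := by
  have : NeZero d := ⟨hd0.ne'⟩
  rw [wt, Finset.sum_boole, Nat.cast_id, Finset.card_eq_one] at hw
  obtain ⟨j, hj⟩ := hw
  have h0 : ∀ i < d, (f (i : ZMod M) = true ↔ i = j) := by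
    intro i hi
    have h1 : i ∈ (range d).filter (fun i : ℕ => f (i : ZMod M) = true) ↔ i ∈ ({j} : Finset ℕ) := by rw [hj]
    rw [mem_filter, mem_range, mem_singleton] at h1
    rw [← h1]
    exact ⟨fun h => ⟨hi, h⟩, fun h => h.2⟩
  have hjd : j < d := by
    have : j ∈ (range d).filter (fun i : ℕ => f (i : ZMod M) = true) := by rw [hj]; exact mem_singleton_self _
    rw [mem_filter, mem_range] at this
    exact this.1
  refine ⟨j, ?_⟩
  funext y
  rw [sh_iter]
  have h2 : f (y + j) = f (((ZMod.castHom hd (ZMod d) (y + j)).val : ℕ) : ZMod M) := by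
    apply per_cast hd hf
    rw [map_natCast, ZMod.natCast_zmod_val]
  rw [h2, ed, Bool.eq_iff_iff, decide_eq_true_iff, h0 _ (ZMod.val_lt _)]
  rw [map_add, map_natCast]
  constructor
  · intro h
    have h3 : ((ZMod.castHom hd (ZMod d) y + (j : ZMod d)).val : ZMod d) = j := by rw [h]
    rw [ZMod.natCast_zmod_val] at h3
    exact add_eq_right.1 h3
  · intro h
    rw [h, zero_add, ZMod.val_natCast_of_lt hjd]

theorem P_iter (hP : Inv q N P) (x : ℤ) {k : ℕ} (hk : 0 < k) (hkN : k ≤ N) (j : ℕ)
    {f : ZMod M → Bool} (h : per k f) : P k (x * av q k ((sh M)^[j] f)) = P k (x * av q k f) := by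
  induction j generalizing f with
  | zero => rfl
  | succ j ih =>
    rw [Function.iterate_succ_apply, ih, P_sh hP x hk hkN h]
    intro i
    rw [sh_apply, sh_apply, ← h (i + 1)]
    congr 1
    ring

theorem wt_iter (j : ℕ) {k : ℕ} {f : ZMod M → Bool} (h : per k f) : wt k ((sh M)^[j] f) = wt k f := by
  induction j generalizing f with
  | zero => rfl
  | succ j ih =>
    rw [Function.iterate_succ_apply, ih, wt_sh h]
    intro i
    rw [sh_apply, sh_apply, ← h (i + 1)]
    congr 1
    ring

theorem av_ed (q : ℤ) {d : ℕ} (hd0 : 0 < d) (hd : d ∣ M) : av q d (ed M d hd) = 1 := by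
  rw [av, Finset.sum_eq_single 0]
  · simp [ed]
  · intro i hi h0
    rw [mem_range] at hi
    rw [if_neg]
    rw [ed, decide_eq_true_iff, map_natCast, ZMod.natCast_eq_zero_iff]
    intro h
    exact h0 (Nat.eq_zero_of_dvd_of_lt h hi)
  · intro h
    exact absurd (mem_range.2 hd0) h

theorem per_ed {d : ℕ} (hd : d ∣ M) : per d (ed M d hd) := by
  intro i
  rw [ed, ed, map_add, map_natCast, ZMod.natCast_self, add_zero]

theorem minp_ed {d : ℕ} (hd : d ∣ M) : Function.minimalPeriod (sh M) (ed M d hd) = d := by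
  apply Nat.dvd_antisymm ((per_iff _ _).1 (per_ed hd))
  have h := per_minp (ed M d hd) 0
  rw [zero_add, ed, ed, map_zero, map_natCast] at h
  rw [Bool.eq_iff_iff, decide_eq_true_iff, decide_eq_true_iff] at h
  rw [← ZMod.natCast_eq_zero_iff]
  exact h.2 rfl

theorem wt_ed {d : ℕ} (hd0 : 0 < d) (hd : d ∣ M) : wt d (ed M d hd) = 1 := by
  have h := av_ed (M := M) 1 hd0 hd
  rw [av] at h
  simp only [one_pow] at h
  rw [wt]
  exact_mod_cast h

/-- **Integrality**: the complete homogeneous elements of all labels lie in `S`. -/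
theorem HH_mem (S : Subring R) (hP : Inv q N P)
    (hmS : ∀ x n r, n ≤ N → (newt (QQ q P x) n).coeff r ∈ S) :
    ∀ k d x, 0 < d → k * d ≤ N → HH q P d x k ∈ S := by
  classical
  intro k
  induction k using Nat.strong_induction_on with
  | _ k ihk =>
  intro d
  induction d using Nat.strong_induction_on with
  | _ d ihd =>
  intro x hd hkd
  rcases Nat.eq_zero_or_pos k with rfl | hk
  · rw [HH, newt_zero]
    exact S.one_mem
  -- the word length
  set M := N.factorial with hM
  have : NeZero M := ⟨Nat.factorial_ne_zero N⟩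
  have hdiv : ∀ n, 0 < n → n ≤ N → n ∣ M := fun n h0 h1 => Nat.dvd_factorial h0 h1
  have hfac := factor (M := M) hP x hdiv
  have hdN : d ≤ N := le_trans (Nat.le_mul_of_pos_left d hk) hkd
  have hdM : d ∣ M := hdiv d hd hdN
  let s := Equiv.Perm.SameCycle.setoid (sh M)
  let c0 : Quotient s := Quotient.mk s (fun _ => false)
  let c1 : Quotient s := Quotient.mk s (ed M d hdM)
  have hc0 : c0.out = fun _ => false := by
    apply sameCycle_zero
    exact Quotient.exact (Quotient.out_eq c0).symm
  -- the factors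
  have hW0 : ∀ c : Quotient s, c ≠ c0 → wt (Function.minimalPeriod (sh M) c.out) c.out ≠ 0 := by
    intro c hc h
    apply hc
    have h1 := zero_of_wt h
    rw [← Quotient.out_eq c, h1]
  have hser : ∀ (c : Quotient s) n i, W (ser q P x c.out) n i =
      if Function.minimalPeriod (sh M) c.out ∣ n ∧
        n / Function.minimalPeriod (sh M) c.out * wt (Function.minimalPeriod (sh M) c.out) c.out = i then
        HH q P (Function.minimalPeriod (sh M) c.out) (x * av q (Function.minimalPeriod (sh M) c.out) c.out)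
          (n / Function.minimalPeriod (sh M) c.out) else 0 := by
    intro c n i
    rw [ser, W_up (minp_pos _), hS, coeff_mk, Pc_eq q P x (per_minp _)]
  have hlow : ∀ c ∈ (Finset.univ : Finset (Quotient s)).erase c0, Low S k N (ser q P x c.out) := by
    intro c hc
    rw [mem_erase] at hc
    have hw := hW0 c hc.1
    have hd' := minp_pos c.out
    constructor
    · intro n
      rw [hser]
      by_cases hn : n = 0
      · subst hn
        rw [if_pos ⟨dvd_zero _, by simp⟩, if_pos rfl, Nat.zero_div, HH, newt_zero]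
      · rw [if_neg hn, if_neg]
        rintro ⟨⟨m, rfl⟩, h2⟩
        rw [Nat.mul_div_cancel_left m hd', Nat.mul_eq_zero] at h2
        rcases h2 with rfl | h2
        · exact hn (mul_zero _)
        · exact hw h2
    · intro n i hn hi
      rw [hser]
      split_ifs with h
      · obtain ⟨⟨m, rfl⟩, h2⟩ := h
        rw [Nat.mul_div_cancel_left m hd'] at h2 ⊢
        have hm : m ≤ i := by
          rw [← h2]
          exact Nat.le_mul_of_pos_right m (Nat.pos_of_ne_zero hw)
        refine ihk m (by omega) _ _ hd' ?_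
        rwa [mul_comm]
      · exact S.zero_mem
  obtain ⟨hlowP, htop⟩ := Low.prod hk _ hlow
  -- the factor of the zero word
  have hz : ∀ n i, W (ser q P x c0.out) n i = if i = 0 then HH q P 1 0 n else 0 := by
    intro n i
    have h1 : Function.minimalPeriod (sh M) c0.out = 1 := by
      rw [hc0]
      exact Function.minimalPeriod_eq_one_iff_isFixedPt.2 sh_zero
    have h2 : wt 1 c0.out = 0 := by rw [hc0, wt]; simp
    have h3 : av q 1 c0.out = 0 := by rw [hc0, av]; simp
    rw [hser, h1, h2, h3, mul_zero, mul_zero, Nat.div_one]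
    by_cases hi : i = 0
    · rw [if_pos hi, if_pos ⟨one_dvd _, hi.symm⟩]
    · rw [if_neg hi, if_neg fun h => hi h.2.symm]
  have hprod : prodAll q P M x = ser q P x c0.out * ∏ c ∈ Finset.univ.erase c0, ser q P x c.out := by
    exact (Finset.mul_prod_erase univ (fun c : Quotient s => ser q P x c.out) (mem_univ c0)).symm
  have hexp : ∀ n i, W (prodAll q P M x) n i = ∑ y ∈ antidiagonal n, HH q P 1 0 y.1 *
      W (∏ c ∈ Finset.univ.erase c0, ser q P x c.out) y.2 i := by
    intro n i
    rw [hprod, W_mul]
    refine Finset.sum_congr rfl fun y _ => ?_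
    rw [Finset.sum_eq_single (0, i)]
    · rw [hz, if_pos rfl]
    · intro z hz' hne
      rw [hz, if_neg, zero_mul]
      intro h
      apply hne
      rw [mem_antidiagonal] at hz'
      ext
      · exact h
      · simp only; omega
    · intro h
      rw [mem_antidiagonal] at h
      simp at h
  have hWS : ∀ n i, n ≤ N → W (prodAll q P M x) n i ∈ S := by
    intro n i hn
    rw [W, ← hfac n hn]
    exact hmS x n i hn
  have hzS : ∀ n ≤ N, HH q P 1 0 n ∈ S := by
    intro n hn
    have h1 := hWS n 0 hn
    rw [hexp, Finset.sum_eq_single (n, 0)] at h1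
    · rwa [hlowP.1, if_pos rfl, mul_one] at h1
    · intro y hy hne
      rw [mem_antidiagonal] at hy
      rw [hlowP.1, if_neg, mul_zero]
      intro h
      apply hne
      ext
      · simp only; omega
      · exact h
    · intro h
      rw [mem_antidiagonal] at h
      simp at h
  -- coefficients of `z ^ k` in lower degree
  have hmem : ∀ (c : Quotient s) n, c ≠ c0 → n ≤ k * d → (c ≠ c1 ∨ n < k * d) → W (ser q P x c.out) n k ∈ S := by
    intro c n hc hn hor
    have hw := hW0 c hc
    have hd' := minp_pos c.out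
    rw [hser]
    split_ifs with h
    · obtain ⟨⟨m, rfl⟩, h2⟩ := h
      rw [Nat.mul_div_cancel_left m hd'] at h2 ⊢
      rcases Nat.lt_or_ge m k with hm | hm
      · refine ihk m hm _ _ hd' ?_
        rw [mul_comm]
        exact hn.trans hkd
      · have hw1 : wt (Function.minimalPeriod (sh M) c.out) c.out = 1 := by
          have h3 : m * wt (Function.minimalPeriod (sh M) c.out) c.out ≤ m * 1 := by rw [h2, mul_one]; exact hm
          have h4 : 0 < m := lt_of_lt_of_le hk hm
          have := Nat.le_of_mul_le_mul_left h3 h4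
          omega
        rw [hw1, mul_one] at h2
        subst h2
        have hle : Function.minimalPeriod (sh M) c.out ≤ d := by
          rw [mul_comm] at hn
          exact Nat.le_of_mul_le_mul_left hn hk
        rcases Nat.lt_or_ge (Function.minimalPeriod (sh M) c.out) d with hlt | hge
        · refine ihd _ hlt _ hd' ?_
          rw [mul_comm]
          exact hn.trans hkd
        · exfalso
          have heq : Function.minimalPeriod (sh M) c.out = d := le_antisymm hle hge
          rw [heq] at hor
          rcases hor with hor | hor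
          · apply hor
            obtain ⟨j, hj⟩ := exists_shift hd hdM (heq ▸ per_minp c.out) (heq ▸ hw1)
            rw [← Quotient.out_eq c]
            refine Quotient.sound (show Equiv.Perm.SameCycle (sh M) c.out (ed M d hdM) from ⟨j, ?_⟩)
            rw [← hj, zpow_natCast, Equiv.Perm.iterate_eq_pow]
          · rw [mul_comm] at hor
            exact lt_irrefl _ hor
    · exact S.zero_mem
  have hlower : ∀ n, n < k * d → W (∏ c ∈ Finset.univ.erase c0, ser q P x c.out) n k ∈ S := by
    intro n hn
    have h1 := htop n (by omega)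
    have h2 : ∑ c ∈ (Finset.univ : Finset (Quotient s)).erase c0, W (ser q P x c.out) n k ∈ S := by
      refine S.sum_mem fun c hc => ?_
      rw [mem_erase] at hc
      exact hmem c n hc.1 hn.le (Or.inr hn)
    have h3 := S.add_mem h1 h2
    rwa [sub_add_cancel] at h3
  have hfull : W (∏ c ∈ Finset.univ.erase c0, ser q P x c.out) (k * d) k ∈ S := by
    have h1 := hWS (k * d) k hkd
    have hmem0 : (0, k * d) ∈ antidiagonal (k * d) := by rw [mem_antidiagonal]; simp
    rw [hexp, ← Finset.add_sum_erase _ _ hmem0] at h1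
    have h0 : HH q P 1 0 0 = 1 := by rw [HH, newt_zero]
    simp only [h0, one_mul] at h1
    refine (S.add_mem_cancel_right ?_).1 h1
    refine S.sum_mem fun y hy => ?_
    rw [mem_erase, mem_antidiagonal] at hy
    have hy2 : y.2 < k * d := by
      rcases Nat.lt_or_ge y.2 (k * d) with h | h
      · exact h
      · exfalso
        apply hy.1
        ext
        · simp only; omega
        · simp only; omega
    exact S.mul_mem (hzS _ (by omega)) (hlower _ hy2)
  -- conclusion
  have hc1 : c1 ≠ c0 := by
    intro h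
    have h1 : Equiv.Perm.SameCycle (sh M) (ed M d hdM) (fun _ => false) := Quotient.exact h
    have h2 := sameCycle_zero h1.symm
    have h3 := congrFun h2 0
    rw [ed, map_zero] at h3
    simp at h3
  have h1 := htop (k * d) hkd
  rw [← Finset.add_sum_erase _ _ (mem_erase.2 ⟨hc1, mem_univ c1⟩)] at h1
  have h2 : ∑ c ∈ ((Finset.univ : Finset (Quotient s)).erase c0).erase c1, W (ser q P x c.out) (k * d) k ∈ S := by
    refine S.sum_mem fun c hc => ?_
    rw [mem_erase, mem_erase] at hc
    exact hmem c _ hc.2.1 le_rfl (Or.inl hc.1)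
  have h3 : W (ser q P x c1.out) (k * d) k ∈ S := by
    have h4 := S.sub_mem hfull (S.add_mem h1 h2)
    convert h4 using 1
    ring
  have hsc : Equiv.Perm.SameCycle (sh M) c1.out (ed M d hdM) := Quotient.exact (Quotient.out_eq c1)
  obtain ⟨j, hj⟩ := hsc.exists_nat_pow_eq
  rw [← Equiv.Perm.iterate_eq_pow] at hj
  have hmin : Function.minimalPeriod (sh M) c1.out = d := by
    rw [← minp_ed hdM, ← hj]
    exact (Function.minimalPeriod_apply_iterate
      (Function.minimalPeriod_pos_iff_mem_periodicPts.1 (minp_pos _)) j).symm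
  have hper : per d c1.out := by
    rw [per_iff, hmin]
  have hwt : wt d c1.out = 1 := by
    rw [← wt_iter j hper, hj, wt_ed hd hdM]
  rw [hser, hmin, hwt, Nat.mul_div_cancel k hd, mul_one, if_pos ⟨dvd_mul_left d k, rfl⟩] at h3
  have h5 : HH q P d (x * av q d c1.out) k = HH q P d x k := by
    refine newt_congr (N := k) (fun m hm0 hmk => ?_) k le_rfl
    have h6 : d * m ≤ N := le_trans (by rw [mul_comm]; exact Nat.mul_le_mul_right d hmk) hkd
    have h7 := P_iter hP x (Nat.mul_pos hd hm0) h6 j (per_of_dvd hper (dvd_mul_right d m))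
    rw [hj, av_mul q (per_ed hdM), av_ed q hd hdM, one_mul, av_mul q hper] at h7
    rw [h7, mul_assoc]
  rwa [h5] at h3

end final

end Cfsg.Agent.H421.GLn
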